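import Mathlib
import Groth.Prelude.Def_Frob
import Groth.Agent.Lib.Helper2.FixFrob.Main
import Groth.Agent.Lib.Helper4.IdealComap

/-!
# Frobenius-twisted correspondences are contracting (S18396, S18398) (helper2)

`C = C₀ ×_{k₀} Spec K` with `K` algebraically closed, `Fr : C ⟶ C` the geometric Frobenius
(`Fr ≫ πC₀ = πC₀ ≫ F^m`, `Fr ≫ πK = πK`).  Every section in the image of `Fr^#` is a `p^m`-th
power, hence for every ideal sheaf `M` on `C`, `L = Fr⁻¹M·O_C` satisfies `L ≤ (√L)^(p^m)`.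
-/

set_option autoImplicit false
set_option backward.isDefEq.respectTransparency.types false
set_option synthInstance.maxHeartbeats 400000
set_option maxHeartbeats 4000000
set_option linter.style.haveILetI false
set_option linter.unusedSectionVars false
set_option linter.unusedVariables false

universe u
open CategoryTheory CategoryTheory.Limits AlgebraicGeometry Opposite

namespace Groth.Agent.Helper2.LVCorr

open Groth.Agent.Helper2.FixFrob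

section Iter

variable (p : ℕ) [Fact p.Prime] (Y : Scheme.{u}) [FrobSch.IsCharP Y p]

/-- the iterated absolute Frobenius -/
noncomputable abbrev Fm (m : ℕ) : Y ⟶ Y := End.asHom (End.of (FrobSch.frob Y p) ^ m)

theorem Fm_zero : Fm p Y 0 = 𝟙 Y := pow_zero (End.of (FrobSch.frob Y p))

theorem Fm_succ (m : ℕ) : Fm p Y (m + 1) = FrobSch.frob Y p ≫ Fm p Y m :=
  pow_succ (End.of (FrobSch.frob Y p)) m

theorem Fm_apply (m : ℕ) (x : Y) : Fm p Y m x = x := by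
  induction m with
  | zero => rw [Fm_zero]; rfl
  | succ m ih => rw [Fm_succ, Scheme.Hom.comp_apply, FrobSch.frob_apply, ih]

theorem le_Fm_preimage (m : ℕ) (U : Y.Opens) : U ≤ Fm p Y m ⁻¹ᵁ U := by
  intro x hx
  change Fm p Y m x ∈ U
  rw [Fm_apply]
  exact hx

theorem Fm_appLE (m : ℕ) (U : Y.Opens) (h : U ≤ Fm p Y m ⁻¹ᵁ U) (s : Γ(Y, U)) :
    ((Fm p Y m).appLE U U h).hom s = s ^ p ^ m := by
  induction m with
  | zero =>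
    have h0 : U ≤ (𝟙 Y : Y ⟶ Y) ⁻¹ᵁ U := le_rfl
    have h1 : (Fm p Y 0).appLE U U h = (𝟙 Y : Y ⟶ Y).appLE U U h0 :=
      appLE_congr_hom (Fm_zero p Y) U U h h0
    rw [h1, pow_zero, pow_one]
    have h6 : Y.presheaf.map (homOfLE h0).op = 𝟙 _ := Y.presheaf.map_id _
    simp only [Scheme.Hom.appLE, Scheme.Hom.id_app]
    rw [h6]
    rfl
  | succ m ih =>
    have h1 : U ≤ (FrobSch.frob Y p ≫ Fm p Y m) ⁻¹ᵁ U := by
      rw [← Fm_succ]; exact h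
    have h2 : (Fm p Y m).appLE U U (le_Fm_preimage p Y m U) ≫
        (FrobSch.frob Y p).appLE U U le_rfl = (FrobSch.frob Y p ≫ Fm p Y m).appLE U U h1 :=
      Scheme.Hom.appLE_comp_appLE _ _ _ _ _ _ _
    have h3 : (Fm p Y (m + 1)).appLE U U h = (FrobSch.frob Y p ≫ Fm p Y m).appLE U U h1 :=
      appLE_congr_hom (Fm_succ p Y m) U U h h1
    have h4 : ∀ t : Γ(Y, U), ((FrobSch.frob Y p).appLE U U le_rfl).hom t = t ^ p := by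
      intro t
      have h5 : (FrobSch.frob Y p).appLE U U le_rfl = (FrobSch.frob Y p).app U := by
        rw [Scheme.Hom.app_eq_appLE]
        rfl
      rw [h5]
      rfl
    rw [h3, ← h2]
    simp only [CommRingCat.hom_comp, RingHom.comp_apply]
    rw [ih, h4, ← pow_mul, pow_succ]

end Iter

section Setup

variable {C C₀ : Scheme.{u}} (p : ℕ) [Fact p.Prime]
    (k₀ : Type u) [Field k₀] (K : Type u) [Field K] [Algebra k₀ K] [IsAlgClosed K]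
    (f₀ : C₀ ⟶ Spec (CommRingCat.of k₀)) [FrobSch.IsCharP C₀ p]
    (πC₀ : C ⟶ C₀) (πK : C ⟶ Spec (CommRingCat.of K))
    (hC : IsPullback πC₀ πK f₀ (Spec.map (CommRingCat.ofHom (algebraMap k₀ K))))
    (m : ℕ) (Fr : C ⟶ C)
    (hFr₀ : Fr ≫ πC₀ = πC₀ ≫ Fm p C₀ m)
    (hFrK : Fr ≫ πK = πK)

include hFr₀ in
theorem le_Fr_preimage (U₀ : C₀.Opens) : πC₀ ⁻¹ᵁ U₀ ≤ Fr ⁻¹ᵁ (πC₀ ⁻¹ᵁ U₀) := by
  intro x hx
  change πC₀ (Fr x) ∈ U₀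
  have h1 : πC₀ (Fr x) = (Fr ≫ πC₀) x := rfl
  rw [h1, hFr₀, Scheme.Hom.comp_apply, Fm_apply]
  exact hx

include hC hFr₀ hFrK in
/-- every section in the image of the geometric Frobenius is a `p^m`-th power -/
theorem exists_pow_eq (hpm : 0 < p ^ m) (U₀ : C₀.Opens) (hU₀ : IsAffineOpen U₀)
    (x : Γ(C, πC₀ ⁻¹ᵁ U₀)) :
    ∃ y : Γ(C, πC₀ ⁻¹ᵁ U₀),
      (Fr.appLE (πC₀ ⁻¹ᵁ U₀) (πC₀ ⁻¹ᵁ U₀) (le_Fr_preimage p πC₀ m Fr hFr₀ U₀)).hom x =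
        y ^ p ^ m := by
  classical
  haveI : FrobSch.IsCharP C p := FrobSch.IsCharP.of_hom πC₀ p
  rcases subsingleton_or_nontrivial Γ(C, πC₀ ⁻¹ᵁ U₀) with hsub | hnt
  · exact ⟨0, Subsingleton.elim _ _⟩
  haveI : CharP Γ(C, πC₀ ⁻¹ᵁ U₀) p :=
    (CharP.charP_iff_prime_eq_zero Fact.out).2 (FrobSch.natCast_eq_zero_app C p _)
  let S : Subring Γ(C, πC₀ ⁻¹ᵁ U₀) :=
    (iterateFrobenius Γ(C, πC₀ ⁻¹ᵁ U₀) p m).range.comap
      (Fr.appLE (πC₀ ⁻¹ᵁ U₀) (πC₀ ⁻¹ᵁ U₀) (le_Fr_preimage p πC₀ m Fr hFr₀ U₀)).hom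
  have hUY : πC₀ ⁻¹ᵁ U₀ = πC₀ ⁻¹ᵁ U₀ ⊓ πK ⁻¹ᵁ ⊤ := by simp
  have hiso := isIso_pushoutSection_of_isAffineOpen hC (US := ⊤) (UT := ⊤) (UX := U₀) le_top
    le_top hUY (isAffineOpen_top _) (isAffineOpen_top _) hU₀
  have hpo := (isIso_pushoutSection_iff hC le_top le_top hUY).mp hiso
  have hS : S = ⊤ := by
    apply subring_eq_top_of_isPushout hpo
    · intro a
      have hle1 : πC₀ ⁻¹ᵁ U₀ ≤ πC₀ ⁻¹ᵁ U₀ := le_rfl
      refine ⟨(πC₀.appLE U₀ (πC₀ ⁻¹ᵁ U₀) hle1).hom a, ?_⟩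
      rw [iterateFrobenius_def]
      have hW : πC₀ ⁻¹ᵁ U₀ ≤ (Fr ≫ πC₀) ⁻¹ᵁ U₀ := le_Fr_preimage p πC₀ m Fr hFr₀ U₀
      have hW' : πC₀ ⁻¹ᵁ U₀ ≤ (πC₀ ≫ Fm p C₀ m) ⁻¹ᵁ U₀ := by rw [← hFr₀]; exact hW
      have h2 : πC₀.appLE U₀ (πC₀ ⁻¹ᵁ U₀) hle1 ≫
          Fr.appLE (πC₀ ⁻¹ᵁ U₀) (πC₀ ⁻¹ᵁ U₀) (le_Fr_preimage p πC₀ m Fr hFr₀ U₀) =
          (Fr ≫ πC₀).appLE U₀ (πC₀ ⁻¹ᵁ U₀) hW := Scheme.Hom.appLE_comp_appLE _ _ _ _ _ _ _
      have h3 : (Fr ≫ πC₀).appLE U₀ (πC₀ ⁻¹ᵁ U₀) hW =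
          (πC₀ ≫ Fm p C₀ m).appLE U₀ (πC₀ ⁻¹ᵁ U₀) hW' := appLE_congr_hom hFr₀ _ _ hW hW'
      have h4 : (Fm p C₀ m).appLE U₀ U₀ (le_Fm_preimage p C₀ m U₀) ≫
          πC₀.appLE U₀ (πC₀ ⁻¹ᵁ U₀) hle1 = (πC₀ ≫ Fm p C₀ m).appLE U₀ (πC₀ ⁻¹ᵁ U₀) hW' :=
        Scheme.Hom.appLE_comp_appLE _ _ _ _ _ _ _
      have h5 := congrArg (fun t => t.hom a) (h2.trans (h3.trans h4.symm))
      simp only [CommRingCat.hom_comp, RingHom.comp_apply] at h5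
      rw [Fm_appLE, map_pow] at h5
      exact h5.symm
    · intro c
      have hle2 : πC₀ ⁻¹ᵁ U₀ ≤ πK ⁻¹ᵁ ⊤ := le_top
      obtain ⟨r, hr⟩ := IsAlgClosed.exists_pow_nat_eq
        ((Scheme.ΓSpecIso (CommRingCat.of K)).hom.hom c) hpm
      let c' : Γ(Spec (CommRingCat.of K), ⊤) := (Scheme.ΓSpecIso (CommRingCat.of K)).inv.hom r
      have hc' : c' ^ p ^ m = c := by
        change ((Scheme.ΓSpecIso (CommRingCat.of K)).inv.hom r) ^ p ^ m = c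
        rw [← map_pow, hr]
        exact congrArg (fun t => t.hom c) (Scheme.ΓSpecIso (CommRingCat.of K)).hom_inv_id
      refine ⟨(πK.appLE ⊤ (πC₀ ⁻¹ᵁ U₀) hle2).hom c', ?_⟩
      rw [iterateFrobenius_def, ← map_pow, hc']
      have hW : πC₀ ⁻¹ᵁ U₀ ≤ (Fr ≫ πK) ⁻¹ᵁ ⊤ := le_top
      have h2 : πK.appLE ⊤ (πC₀ ⁻¹ᵁ U₀) hle2 ≫
          Fr.appLE (πC₀ ⁻¹ᵁ U₀) (πC₀ ⁻¹ᵁ U₀) (le_Fr_preimage p πC₀ m Fr hFr₀ U₀) =
          (Fr ≫ πK).appLE ⊤ (πC₀ ⁻¹ᵁ U₀) hW := Scheme.Hom.appLE_comp_appLE _ _ _ _ _ _ _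
      have h3 : (Fr ≫ πK).appLE ⊤ (πC₀ ⁻¹ᵁ U₀) hW = πK.appLE ⊤ (πC₀ ⁻¹ᵁ U₀) hle2 :=
        appLE_congr_hom hFrK _ _ hW hle2
      have h5 := congrArg (fun t => t.hom c) (h2.trans h3)
      simp only [CommRingCat.hom_comp, RingHom.comp_apply] at h5
      exact h5.symm
  have hx : x ∈ S := by rw [hS]; trivial
  obtain ⟨y, hy⟩ := hx
  exact ⟨y, by rw [← hy, iterateFrobenius_def]⟩

include hC hFr₀ hFrK in
/-- the inverse image `L` of any ideal sheaf under the geometric Frobenius satisfies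
`L ≤ (√L)^(p^m)` -/
theorem comap_Fr_le (hpm : 0 < p ^ m) (M : C.IdealSheafData) :
    M.comap Fr ≤ (M.comap Fr).radical ^ (p ^ m) := by
  haveI : IsAffineHom πC₀ :=
    MorphismProperty.of_isPullback (P := @IsAffineHom) hC.flip inferInstance
  refine Scheme.IdealSheafData.le_of_iSup_eq_top (ι := C₀.affineOpens)
    (fun U₀ => ⟨πC₀ ⁻¹ᵁ U₀.1, U₀.2.preimage πC₀⟩) ?_ ?_
  · change ⨆ U₀ : C₀.affineOpens, πC₀ ⁻¹ᵁ U₀.1 = ⊤
    rw [← Scheme.Hom.preimage_iSup, iSup_affineOpens_eq_top]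
    rfl
  · intro U₀
    simp only [Scheme.IdealSheafData.ideal_pow, Scheme.IdealSheafData.radical_ideal, Pi.pow_apply]
    rw [Groth.Agent.Helper4.IdealComap.ideal_comap_eq_map Fr M
      ⟨πC₀ ⁻¹ᵁ U₀.1, U₀.2.preimage πC₀⟩ ⟨πC₀ ⁻¹ᵁ U₀.1, U₀.2.preimage πC₀⟩
      (le_Fr_preimage p πC₀ m Fr hFr₀ U₀.1)]
    rw [Ideal.map_le_iff_le_comap]
    intro x hx
    obtain ⟨y, hy⟩ := exists_pow_eq p k₀ K f₀ πC₀ πK hC m Fr hFr₀ hFrK hpm U₀.1 U₀.2 x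
    rw [Ideal.mem_comap, hy]
    apply Ideal.pow_mem_pow
    refine ⟨p ^ m, ?_⟩
    rw [← hy]
    exact Ideal.mem_map_of_mem _ hx

end Setup

section Contract

open Scheme.IdealSheafData in
/-- the abstract contraction criterion -/
theorem contract_of_support_le {C : Scheme.{u}} (L J : C.IdealSheafData) (q d : ℕ)
    (hL : L ≤ L.radical ^ q) (hsupp : J.support ≤ L.support) (hd : J.radical ^ d ≤ J)
    (hn : d < q) : L ≤ J ∧ L ^ d ≤ J ^ (d + 1) := by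
  have hrad : L.radical ≤ J.radical := by
    rw [← vanishingIdeal_support, ← vanishingIdeal_support]
    exact vanishingIdeal_antimono hsupp
  have h0 : ∀ I : C.IdealSheafData, 0 ≤ I := fun I => bot_le
  have h1 : ∀ I : C.IdealSheafData, I ≤ 1 := fun I => le_top
  have hLq : L ≤ J.radical ^ q := hL.trans (pow_le_pow_left₀ (h0 _) hrad q)
  constructor
  · exact hLq.trans ((pow_le_pow_of_le_one (h0 _) (h1 _) hn.le).trans hd)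
  · calc L ^ d ≤ (J.radical ^ q) ^ d := pow_le_pow_left₀ (h0 _) hLq d
      _ = J.radical ^ (q * d) := (pow_mul _ _ _).symm
      _ ≤ J.radical ^ (d * (d + 1)) := pow_le_pow_of_le_one (h0 _) (h1 _) (by nlinarith)
      _ = (J.radical ^ d) ^ (d + 1) := pow_mul _ _ _
      _ ≤ J ^ (d + 1) := pow_le_pow_left₀ (h0 _) hd _

end Contract

section Main

open Scheme.IdealSheafData

variable {C C₀ X : Scheme.{u}} (p : ℕ) [Fact p.Prime]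
    (k₀ : Type u) [Field k₀] (K : Type u) [Field K] [Algebra k₀ K] [IsAlgClosure k₀ K]
    (f₀ : C₀ ⟶ Spec (CommRingCat.of k₀)) [FrobSch.IsCharP C₀ p]
    (πC₀ : C ⟶ C₀) (πK : C ⟶ Spec (CommRingCat.of K))
    (hC : IsPullback πC₀ πK f₀ (Spec.map (CommRingCat.ofHom (algebraMap k₀ K))))
    (m : ℕ) (Fr : C ⟶ C)
    (hFr₀ : Fr ≫ πC₀ = πC₀ ≫ End.asHom (End.of (FrobSch.frob C₀ p) ^ m))
    (hFrK : Fr ≫ πK = πK)

include hC hFr₀ hFrK in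
theorem comap_Fr_comp_le (c₁ : C ⟶ X) (I : X.IdealSheafData) :
    I.comap (Fr ≫ c₁) ≤ (I.comap (Fr ≫ c₁)).radical ^ (p ^ m) := by
  haveI : IsAlgClosed K := IsAlgClosure.isAlgClosed k₀
  have hpm : 0 < p ^ m := pow_pos (Fact.out : p.Prime).pos m
  have hL := comap_Fr_le p k₀ K f₀ πC₀ πK hC m Fr hFr₀ hFrK hpm (I.comap c₁)
  rw [← comap_comp] at hL
  exact hL

include hC hFr₀ hFrK in
theorem S18396_main (c₁ c₂ : C ⟶ X) (I : X.IdealSheafData) (d : ℕ)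
    (hd : (I.comap c₂).radical ^ d ≤ I.comap c₂) (hn : d < p ^ m)
    (hinv : (Fr ≫ c₁).base '' (c₂.base ⁻¹' (I.support : Set X)) ⊆ (I.support : Set X)) :
    I.comap (Fr ≫ c₁) ≤ I.comap c₂ ∧ I.comap (Fr ≫ c₁) ^ d ≤ I.comap c₂ ^ (d + 1) := by
  refine contract_of_support_le _ _ (p ^ m) d
    (comap_Fr_comp_le p k₀ K f₀ πC₀ πK hC m Fr hFr₀ hFrK c₁ I) ?_ hd hn
  intro x hx
  rw [support_comap] at hx ⊢
  exact hinv ⟨x, hx, rfl⟩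

include hC hFr₀ hFrK in
theorem S18398_main {X₀ : Scheme.{u}} (πX₀ : X ⟶ X₀) (c₁ c₂ : C ⟶ X) (c₁₀ : C₀ ⟶ X₀)
    (hc₁₀ : c₁ ≫ πX₀ = πC₀ ≫ c₁₀)
    (I₀ : X₀.IdealSheafData) (d : ℕ)
    (hd : ((I₀.comap πX₀).comap c₂).radical ^ d ≤ (I₀.comap πX₀).comap c₂) (hn : d < p ^ m)
    (hinv : c₁.base '' (c₂.base ⁻¹' ((I₀.comap πX₀).support : Set X)) ⊆
      ((I₀.comap πX₀).support : Set X)) :
    (I₀.comap πX₀).comap (Fr ≫ c₁) ≤ (I₀.comap πX₀).comap c₂ ∧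
      (I₀.comap πX₀).comap (Fr ≫ c₁) ^ d ≤ (I₀.comap πX₀).comap c₂ ^ (d + 1) := by
  refine S18396_main p k₀ K f₀ πC₀ πK hC m Fr hFr₀ hFrK c₁ c₂ _ d hd hn ?_
  rintro _ ⟨x, hx, rfl⟩
  have h1 : c₁ x ∈ ((I₀.comap πX₀).support : Set X) := hinv ⟨x, hx, rfl⟩
  rw [support_comap] at h1 ⊢
  change πX₀ (c₁ x) ∈ (I₀.support : Set X₀) at h1
  change πX₀ (c₁ (Fr x)) ∈ (I₀.support : Set X₀)
  have h2 : πX₀ (c₁ (Fr x)) = ((Fr ≫ πC₀) ≫ c₁₀) x := by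
    rw [Category.assoc, ← hc₁₀]
    rfl
  have h3 : πX₀ (c₁ x) = (πC₀ ≫ c₁₀) x := by
    rw [← hc₁₀]
    rfl
  rw [h2, hFr₀]
  rw [h3] at h1
  have h4 : ((πC₀ ≫ Fm p C₀ m) ≫ c₁₀) x = (πC₀ ≫ c₁₀) x := by
    simp only [Scheme.Hom.comp_apply]
    rw [Fm_apply]
  exact h4 ▸ h1

end Main

end Groth.Agent.Helper2.LVCorr
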