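import Mathlib
import Groth.Prelude.Def_Frob
import Groth.Agent.Lib.Helper2.LVCorr.Twist
import Groth.Agent.Lib.Helper7.FormalCompl
import Groth.Agent.Lib.Helper1.SchNoeth
import Groth.Agent.Lib.Helper1.TopL

/-!
# Fixed points of Frobenius-twisted correspondences (S18397, S19878, S19879) (helper2)
-/

set_option autoImplicit false
set_option backward.isDefEq.respectTransparency.types false
set_option synthInstance.maxHeartbeats 400000
set_option maxHeartbeats 4000000
set_option linter.style.haveILetI false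
set_option linter.unusedSectionVars false
set_option linter.unusedVariables false

universe u
open CategoryTheory CategoryTheory.Limits AlgebraicGeometry Opposite TopologicalSpace

namespace Groth.Agent.Helper2.LVCorr

open Scheme.IdealSheafData
open Groth.Agent.Helper7.FormalCompl (comap_pow)

section General

theorem comap_radical_le {X Y : Scheme.{u}} (f : X ⟶ Y) (I : Y.IdealSheafData) :
    I.radical.comap f ≤ (I.comap f).radical := by
  rw [← vanishingIdeal_support (I := I.comap f), ← le_support_iff_le_vanishingIdeal,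
    support_comap, support_comap, support_radical]

theorem radical_comap_of_isOpenImmersion {X Y : Scheme.{u}} (f : X ⟶ Y) [IsOpenImmersion f]
    (I : Y.IdealSheafData) : (I.comap f).radical = I.radical.comap f := by
  ext U : 2
  rw [radical_ideal, ideal_comap_of_isOpenImmersion, ideal_comap_of_isOpenImmersion,
    radical_ideal, Ideal.comap_radical]

theorem isClosed_of_subset_of_isDiscrete {T : Type*} [TopologicalSpace T] {s t : Set T}
    (hs : IsClosed s) (hd : IsDiscrete s) (ht : t ⊆ s) : IsClosed t := by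
  haveI : DiscreteTopology s := hd.to_subtype
  have h1 : IsClosed (Subtype.val '' (Subtype.val ⁻¹' t : Set s)) :=
    hs.isClosedEmbedding_subtypeVal.isClosedMap _ (isClosed_discrete _)
  rwa [Subtype.image_preimage_coe, Set.inter_eq_right.mpr ht] at h1

end General

section Nhds

variable {C C₀ X : Scheme.{u}} (p : ℕ) [Fact p.Prime]
    (k₀ : Type u) [Field k₀] (K : Type u) [Field K] [Algebra k₀ K] [IsAlgClosure k₀ K]
    (f₀ : C₀ ⟶ Spec (CommRingCat.of k₀)) [FrobSch.IsCharP C₀ p]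
    (πC₀ : C ⟶ C₀) (πK : C ⟶ Spec (CommRingCat.of K))
    (hC : IsPullback πC₀ πK f₀ (Spec.map (CommRingCat.ofHom (algebraMap k₀ K))))
    (m : ℕ) (Fr : C ⟶ C)
    (hFr₀ : Fr ≫ πC₀ = πC₀ ≫ End.asHom (End.of (FrobSch.frob C₀ p) ^ m))
    (hFrK : Fr ≫ πK = πK)

include hC hFr₀ hFrK in
theorem contracting_nhds (pX : X ⟶ Spec (CommRingCat.of K)) (c₁ c₂ : C ⟶ X)
    [LocallyQuasiFinite c₂]
    (hcomm : (Fr ≫ c₁) ≫ pX = c₂ ≫ pX) (d : ℕ) (hn : d < p ^ m)
    (x : X) (hx : IsClosed ({x} : Set X)) (I : X.IdealSheafData)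
    (hsuppI : (I.support : Set X) = {x})
    (hd : (I.comap c₂).radical ^ d ≤ I.comap c₂) :
    ∃ W : C.Opens,
      (pullback.lift (Fr ≫ c₁) c₂ hcomm).base ⁻¹' Set.range (pullback.diagonal pX).base ⊆
        (W : Set C) ∧
      I.comap (W.ι ≫ Fr ≫ c₁) ≤ I.comap (W.ι ≫ c₂) ∧
      I.comap (W.ι ≫ Fr ≫ c₁) ^ d ≤ I.comap (W.ι ≫ c₂) ^ (d + 1) := by
  classical
  let T : Set C := c₂.base ⁻¹' {x} \ (Fr ≫ c₁).base ⁻¹' {x}
  have hTcl : IsClosed T :=
    isClosed_of_subset_of_isDiscrete (hx.preimage c₂.continuous)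
      (c₂.isDiscrete_preimage_singleton x) Set.sdiff_subset
  let W : C.Opens := ⟨Tᶜ, hTcl.isOpen_compl⟩
  refine ⟨W, ?_, ?_⟩
  · intro z hz
    obtain ⟨w, hw⟩ := hz
    intro hzT
    have e1 : (pullback.fst pX pX) ((pullback.lift (Fr ≫ c₁) c₂ hcomm) z) = (Fr ≫ c₁) z := by
      rw [← Scheme.Hom.comp_apply, pullback.lift_fst]
    have e2 : (pullback.fst pX pX) ((pullback.diagonal pX) w) = w := by
      rw [← Scheme.Hom.comp_apply, pullback.diagonal_fst]
      rfl
    have e3 : (pullback.snd pX pX) ((pullback.lift (Fr ≫ c₁) c₂ hcomm) z) = c₂ z := by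
      rw [← Scheme.Hom.comp_apply, pullback.lift_snd]
    have e4 : (pullback.snd pX pX) ((pullback.diagonal pX) w) = w := by
      rw [← Scheme.Hom.comp_apply, pullback.diagonal_snd]
      rfl
    have hw' : (pullback.diagonal pX) w = (pullback.lift (Fr ≫ c₁) c₂ hcomm) z := hw
    rw [hw'] at e2 e4
    have h5 : (Fr ≫ c₁) z = c₂ z := by rw [← e1, e2, ← e3, e4]
    apply hzT.2
    change (Fr ≫ c₁) z ∈ ({x} : Set X)
    rw [h5]
    exact hzT.1
  · have key := contract_of_support_le (I.comap (W.ι ≫ Fr ≫ c₁)) (I.comap (W.ι ≫ c₂)) (p ^ m) d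
      ?_ ?_ ?_ hn
    · exact key
    · -- hL
      have h1 := comap_Fr_comp_le p k₀ K f₀ πC₀ πK hC m Fr hFr₀ hFrK c₁ I
      have h2 : I.comap (W.ι ≫ Fr ≫ c₁) = (I.comap (Fr ≫ c₁)).comap W.ι := comap_comp _ _ _
      rw [h2]
      calc (I.comap (Fr ≫ c₁)).comap W.ι
          ≤ ((I.comap (Fr ≫ c₁)).radical ^ (p ^ m)).comap W.ι := comap_mono W.ι h1
        _ = ((I.comap (Fr ≫ c₁)).radical.comap W.ι) ^ (p ^ m) := comap_pow _ _ _
        _ ≤ (((I.comap (Fr ≫ c₁)).comap W.ι).radical) ^ (p ^ m) :=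
            pow_le_pow_left₀ bot_le (comap_radical_le _ _) _
    · -- supports
      intro z hz
      rw [support_comap] at hz ⊢
      have hz1 : (W.ι ≫ c₂) z ∈ (I.support : Set X) := hz
      change (W.ι ≫ Fr ≫ c₁) z ∈ (I.support : Set X)
      rw [hsuppI] at hz1 ⊢
      by_contra hne
      have hzW : W.ι z ∈ (W : Set C) := z.2
      exact hzW ⟨hz1, hne⟩
    · -- hd
      rw [comap_comp, radical_comap_of_isOpenImmersion, ← comap_pow]
      exact comap_mono W.ι hd

end Nhds

section Fix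

theorem S19878_main {C X Fx : Scheme.{u}} (k : Type u) [Field k]
    (pC : C ⟶ Spec (CommRingCat.of k)) [LocallyOfFiniteType pC] [QuasiCompact pC]
    (pX : X ⟶ Spec (CommRingCat.of k)) (c₁ c₂ : C ⟶ X) (hc : c₁ ≫ pX = c₂ ≫ pX)
    (i : Fx ⟶ C) (δ : Fx ⟶ X)
    (hF : IsPullback i δ (pullback.lift c₁ c₂ hc) (pullback.diagonal pX))
    (I : X.IdealSheafData) (W : C.Opens) (hW : Set.range i.base ⊆ (W : Set C))
    (k₀ : ℕ) (hpow : I.comap (W.ι ≫ c₁) ^ k₀ ≤ I.comap (W.ι ≫ c₂) ^ (k₀ + 1))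
    (β : Fx.Opens) (hβ : _root_.IsConnected (β : Set Fx))
    (hβZ : (δ.base '' (β : Set Fx) ∩ (I.support : Set X)).Nonempty) :
    (β : Set Fx) ⊆ δ.base ⁻¹' (I.support : Set X) := by
  classical
  have hW' : Set.range i.base ⊆ Set.range W.ι.base := by
    have h0 : Set.range W.ι.base = (W : Set C) := Scheme.Opens.range_ι W
    rw [h0]
    exact hW
  let i' : Fx ⟶ W := IsOpenImmersion.lift W.ι i hW'
  have hi' : i' ≫ W.ι = i := IsOpenImmersion.lift_fac _ _ _
  have h1 : i ≫ c₁ = δ := by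
    have h := congrArg (· ≫ pullback.fst pX pX) hF.w
    simp only [Category.assoc, pullback.lift_fst, pullback.diagonal_fst, Category.comp_id] at h
    exact h
  have h2 : i ≫ c₂ = δ := by
    have h := congrArg (· ≫ pullback.snd pX pX) hF.w
    simp only [Category.assoc, pullback.lift_snd, pullback.diagonal_snd, Category.comp_id] at h
    exact h
  have e1 : I.comap δ = (I.comap (W.ι ≫ c₁)).comap i' := by
    rw [← comap_comp, ← Category.assoc, hi', h1]
  have e2 : I.comap δ = (I.comap (W.ι ≫ c₂)).comap i' := by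
    rw [← comap_comp, ← Category.assoc, hi', h2]
  have hIF : (I.comap δ) ^ k₀ ≤ (I.comap δ) ^ (k₀ + 1) := by
    have h3 : (I.comap (W.ι ≫ c₁) ^ k₀).comap i' ≤ (I.comap (W.ι ≫ c₂) ^ (k₀ + 1)).comap i' :=
      comap_mono i' hpow
    rw [comap_pow, comap_pow, ← e1, ← e2] at h3
    exact h3
  -- the scheme β
  have hIβ1 : ((I.comap δ).comap β.ι) ^ k₀ = ((I.comap δ).comap β.ι) ^ (k₀ + 1) := by
    apply le_antisymm
    · have h3 : ((I.comap δ) ^ k₀).comap β.ι ≤ ((I.comap δ) ^ (k₀ + 1)).comap β.ι :=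
        comap_mono β.ι hIF
      rwa [comap_pow, comap_pow] at h3
    · exact pow_le_pow_of_le_one bot_le le_top (Nat.le_succ _)
  -- Noetherian
  haveI : IsImmersion i :=
    MorphismProperty.of_isPullback (P := @IsImmersion) hF.flip inferInstance
  haveI : IsLocallyNoetherian C := LocallyOfFiniteType.isLocallyNoetherian pC
  haveI : CompactSpace C := QuasiCompact.compactSpace_of_compactSpace pC
  haveI : IsNoetherian C := {}
  haveI : IsLocallyNoetherian Fx := LocallyOfFiniteType.isLocallyNoetherian i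
  haveI : NoetherianSpace Fx := i.isEmbedding.isInducing.noetherianSpace
  haveI : CompactSpace β.toScheme :=
    isCompact_iff_compactSpace.mp (NoetherianSpace.isCompact (β : Set Fx))
  haveI : IsNoetherian β.toScheme := {}
  haveI : ConnectedSpace β.toScheme := isConnected_iff_connectedSpace.mp hβ
  obtain ⟨_, ⟨b, hbβ, rfl⟩, hbZ⟩ := hβZ
  have hb : (⟨b, hbβ⟩ : β.toScheme) ∈ ((I.comap δ).comap β.ι).support := by
    rw [support_comap, support_comap]
    exact hbZ
  have hne : (I.comap δ).comap β.ι ≠ ⊤ := by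
    intro h
    rw [h, support_top] at hb
    exact hb
  have hbot := Groth.Agent.Helper1.SchNoeth.S18386 _ _ hne k₀ hIβ1
  have hk : k₀ ≠ 0 := by
    rintro rfl
    rw [pow_zero] at hbot
    have h5 : (⟨b, hbβ⟩ : β.toScheme) ∈ (⊥ : β.toScheme.IdealSheafData).support := by
      rw [support_bot]; trivial
    rw [← hbot, one_eq_top, support_top] at h5
    exact h5
  intro y hy
  have h4 : (⟨y, hy⟩ : β.toScheme) ∈ (((I.comap δ).comap β.ι) ^ k₀).support := by
    rw [hbot, support_bot]; trivial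
  rw [support_pow _ k₀ hk, support_comap, support_comap] at h4
  exact h4

end Fix

section Final

variable {C C₀ X : Scheme.{u}} (p : ℕ) [Fact p.Prime]
    (k₀ : Type u) [Field k₀] (K : Type u) [Field K] [Algebra k₀ K] [IsAlgClosure k₀ K]
    (f₀ : C₀ ⟶ Spec (CommRingCat.of k₀)) [FrobSch.IsCharP C₀ p]
    (πC₀ : C ⟶ C₀) (πK : C ⟶ Spec (CommRingCat.of K))
    (hC : IsPullback πC₀ πK f₀ (Spec.map (CommRingCat.ofHom (algebraMap k₀ K))))
    (m : ℕ) (Fr : C ⟶ C)
    (hFr₀ : Fr ≫ πC₀ = πC₀ ≫ End.asHom (End.of (FrobSch.frob C₀ p) ^ m))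
    (hFrK : Fr ≫ πK = πK)

include hC hFr₀ hFrK in
theorem S18397_main (pX : X ⟶ Spec (CommRingCat.of K)) (c₁ c₂ : C ⟶ X)
    [LocallyQuasiFinite c₂]
    (hcomm : (Fr ≫ c₁) ≫ pX = c₂ ≫ pX) (d : ℕ) (hn : d < p ^ m)
    (hd : ∀ (x : X) (hx : IsClosed ({x} : Set X)),
      ((Scheme.IdealSheafData.vanishingIdeal ⟨{x}, hx⟩).comap c₂).radical ^ d ≤
        (Scheme.IdealSheafData.vanishingIdeal ⟨{x}, hx⟩).comap c₂)
    (x : X) (hx : IsClosed ({x} : Set X)) :
    ∃ W : C.Opens,
      (pullback.lift (Fr ≫ c₁) c₂ hcomm).base ⁻¹' Set.range (pullback.diagonal pX).base ⊆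
        (W : Set C) ∧
      (Scheme.IdealSheafData.vanishingIdeal ⟨{x}, hx⟩).comap (W.ι ≫ Fr ≫ c₁) ≤
        (Scheme.IdealSheafData.vanishingIdeal ⟨{x}, hx⟩).comap (W.ι ≫ c₂) ∧
      ∃ k : ℕ, (Scheme.IdealSheafData.vanishingIdeal ⟨{x}, hx⟩).comap (W.ι ≫ Fr ≫ c₁) ^ k ≤
        (Scheme.IdealSheafData.vanishingIdeal ⟨{x}, hx⟩).comap (W.ι ≫ c₂) ^ (k + 1) := by
  obtain ⟨W, h1, h2, h3⟩ := contracting_nhds p k₀ K f₀ πC₀ πK hC m Fr hFr₀ hFrK pX c₁ c₂ hcomm d hn
    x hx (Scheme.IdealSheafData.vanishingIdeal ⟨{x}, hx⟩) (coe_support_vanishingIdeal _)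
    (hd x hx)
  exact ⟨W, h1, h2, d, h3⟩

include hC hFr₀ hFrK in
theorem S19879_main {Fx : Scheme.{u}} [LocallyOfFiniteType f₀] [QuasiCompact f₀]
    (pX : X ⟶ Spec (CommRingCat.of K)) [LocallyOfFiniteType pX] (c₁ c₂ : C ⟶ X)
    [LocallyQuasiFinite c₂] [LocallyOfFiniteType c₂]
    (hcomm : (Fr ≫ c₁) ≫ pX = c₂ ≫ pX) (d : ℕ) (hn : d < p ^ m)
    (hd : ∀ (x : X) (hx : IsClosed ({x} : Set X)),
      ((Scheme.IdealSheafData.vanishingIdeal ⟨{x}, hx⟩).comap c₂).radical ^ d ≤
        (Scheme.IdealSheafData.vanishingIdeal ⟨{x}, hx⟩).comap c₂)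
    (i : Fx ⟶ C) (δ : Fx ⟶ X)
    (hF : IsPullback i δ (pullback.lift (Fr ≫ c₁) c₂ hcomm) (pullback.diagonal pX)) :
    Finite Fx ∧ DiscreteTopology Fx := by
  classical
  haveI : LocallyOfFiniteType πK :=
    MorphismProperty.of_isPullback (P := @LocallyOfFiniteType) hC inferInstance
  haveI : QuasiCompact πK :=
    MorphismProperty.of_isPullback (P := @QuasiCompact) hC inferInstance
  haveI : IsImmersion i :=
    MorphismProperty.of_isPullback (P := @IsImmersion) hF.flip inferInstance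
  haveI : IsLocallyNoetherian C := LocallyOfFiniteType.isLocallyNoetherian πK
  haveI : CompactSpace C := QuasiCompact.compactSpace_of_compactSpace πK
  haveI : IsNoetherian C := {}
  haveI : NoetherianSpace Fx := i.isEmbedding.isInducing.noetherianSpace
  have h2 : i ≫ c₂ = δ := by
    have h := congrArg (· ≫ pullback.snd pX pX) hF.w
    simp only [Category.assoc, pullback.lift_snd, pullback.diagonal_snd, Category.comp_id] at h
    exact h
  haveI : LocallyOfFiniteType δ := by rw [← h2]; infer_instance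
  haveI : JacobsonSpace X := LocallyOfFiniteType.jacobsonSpace pX
  have hopen : ∀ y : Fx, IsOpen ({y} : Set Fx) := by
    intro y
    obtain ⟨y₀, hy₀mem, hy₀cl⟩ := (isClosed_closure (s := ({y} : Set Fx))).exists_closed_singleton
      ⟨y, subset_closure rfl⟩
    have hxcl : IsClosed ({δ y₀} : Set X) :=
      δ.closePoints_subset_preimage_closedPoints hy₀cl
    obtain ⟨W, hW1, hW2, hW3⟩ := contracting_nhds p k₀ K f₀ πC₀ πK hC m Fr hFr₀ hFrK pX c₁ c₂
      hcomm d hn (δ y₀) hxcl (Scheme.IdealSheafData.vanishingIdeal ⟨{δ y₀}, hxcl⟩)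
      (coe_support_vanishingIdeal _) (hd _ hxcl)
    let β : Fx.Opens := ⟨connectedComponent y₀,
      Groth.Agent.Helper1.TopL.isOpen_connectedComponent_of_noetherian y₀⟩
    have hβconn : _root_.IsConnected (β : Set Fx) := isConnected_connectedComponent
    have hyβ : y ∈ (β : Set Fx) :=
      (isPreconnected_singleton.closure.subset_connectedComponent hy₀mem) (subset_closure rfl)
    have hy₀β : y₀ ∈ (β : Set Fx) := mem_connectedComponent
    have hrange : Set.range i.base ⊆ (W : Set C) := by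
      rintro _ ⟨z, rfl⟩
      apply hW1
      refine ⟨δ z, ?_⟩
      have h3 : (pullback.diagonal pX) (δ z) = (δ ≫ pullback.diagonal pX) z := rfl
      have h4 : (pullback.lift (Fr ≫ c₁) c₂ hcomm) (i z) =
          (i ≫ pullback.lift (Fr ≫ c₁) c₂ hcomm) z := rfl
      change (pullback.diagonal pX) (δ z) = (pullback.lift (Fr ≫ c₁) c₂ hcomm) (i z)
      rw [h3, h4, hF.w]
    have hsub := S19878_main K πK pX (Fr ≫ c₁) c₂ hcomm i δ hF
      (Scheme.IdealSheafData.vanishingIdeal ⟨{δ y₀}, hxcl⟩) W hrange d hW3 β hβconn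
      ⟨δ y₀, ⟨y₀, hy₀β, rfl⟩, by rw [coe_support_vanishingIdeal]; rfl⟩
    have hβdisc : _root_.IsDiscrete (β : Set Fx) := by
      have h5 : _root_.IsDiscrete (i.base ⁻¹' (c₂.base ⁻¹' {δ y₀})) :=
        (c₂.isDiscrete_preimage_singleton (δ y₀)).preimage i.continuous.continuousOn
          i.isEmbedding.injective
      refine h5.mono ?_
      intro z hz
      have h6 := hsub hz
      rw [coe_support_vanishingIdeal] at h6
      change c₂ (i z) ∈ ({δ y₀} : Set X)
      have h7 : c₂ (i z) = (i ≫ c₂) z := rfl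
      rw [h7, h2]
      exact h6
    haveI : DiscreteTopology (β : Set Fx) := hβdisc.to_subtype
    haveI : ConnectedSpace (β : Set Fx) := isConnected_iff_connectedSpace.mp hβconn
    haveI : Subsingleton (β : Set Fx) := PreconnectedSpace.trivial_of_discrete
    have hβeq : (β : Set Fx) = {y} := by
      ext z
      constructor
      · intro hz
        exact congrArg Subtype.val (Subsingleton.elim (⟨z, hz⟩ : (β : Set Fx)) ⟨y, hyβ⟩)
      · rintro rfl
        exact hyβ
    rw [← hβeq]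
    exact β.2
  haveI : DiscreteTopology Fx := discreteTopology_iff_isOpen_singleton.mpr hopen
  exact ⟨finite_of_compact_of_discrete, inferInstance⟩

end Final

end Groth.Agent.Helper2.LVCorr
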